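import Cfsg.Agent.SchmidtUniversal.Model
import Mathlib.FieldTheory.IntermediateField.Adjoin.Basic
import Mathlib.Algebra.CharP.Frobenius
import Mathlib.RingTheory.Polynomial.Cyclotomic.Roots
import Mathlib.RingTheory.RootsOfUnity.PrimitiveRoots

/-!
# The field, the form, and the normalisation of the acting automorphism
-/

set_option autoImplicit false
set_option linter.style.haveILetI false
set_option linter.unusedSectionVars false

namespace CfsgLib.SchmidtUniversal

open Polynomial

universe u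

variable {p q : ℕ} [Fact p.Prime] [Fact q.Prime]

/-- What the universal group needs from the field. -/
theorem exists_data (hpq : p ≠ q) {a : ℕ} (ha : a = orderOf (p : ZMod q)) :
    ∃ (K : Type) (_ : Field K) (_ : Finite K) (_ : Algebra (ZMod p) K) (ζ : K) (h : ℕ)
      (F : Form K ζ), orderOf ζ = q ∧ Nat.card K = p ^ a ∧ Nat.card F.W = p ^ h ∧
      a + h = (if a % 2 = 1 then a else 3 * a / 2) ∧
      (∀ R : Subring K, ζ ∈ R → R = ⊤) ∧ (minpoly (ZMod p) ζ).natDegree = a ∧
      (a ≤ 2 * h + 1 ∨ (IsCoprime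
        (∑ i ∈ Finset.range (a + 1), C ((minpoly (ZMod p) ζ).coeff i) * X ^ i)
        (∑ i ∈ Finset.range (a + 1), C ((minpoly (ZMod p) ζ).coeff i) * X ^ (a - i)) ∧ h = 0)) := by
  classical
  have hp : p.Prime := Fact.out
  have hq : q.Prime := Fact.out
  have hp0 : (p : ZMod q) ≠ 0 := by
    rw [Ne, ZMod.natCast_eq_zero_iff]
    exact fun hd => hpq ((Nat.prime_dvd_prime_iff_eq hq hp).1 hd).symm
  have hapos : 0 < a := ha ▸ orderOf_pos_iff.2
    (isOfFinOrder_iff_pow_eq_one.2 ⟨q - 1, by have := hq.two_le; omega, ZMod.pow_card_sub_one_eq_one hp0⟩)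
  have hdvd : ∀ d, (p : ZMod q) ^ d = 1 ↔ a ∣ d := fun d => ha ▸ orderOf_dvd_iff_pow_eq_one.symm
  let K := GaloisField p a
  letI : Fintype K := Fintype.ofFinite K
  have hK : Nat.card K = p ^ a := GaloisField.card p a hapos.ne'
  haveI : ExpChar K p := ExpChar.prime hp
  have hqK : q ∣ Nat.card Kˣ := by
    rw [Nat.card_units, hK, ← ZMod.natCast_eq_zero_iff, Nat.cast_sub (Nat.one_le_pow _ _ hp.pos),
      Nat.cast_pow, (hdvd a).2 dvd_rfl, Nat.cast_one, sub_self]
  obtain ⟨u, hu⟩ := exists_prime_orderOf_dvd_card' q hqK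
  obtain ⟨ζ, hζu⟩ : ∃ ζ : K, (u : K) = ζ := ⟨_, rfl⟩
  have hζ : orderOf ζ = q := by rw [← hζu, orderOf_units, hu]
  have hζ0 : ζ ≠ 0 := hζu ▸ u.ne_zero
  have hint : IsIntegral (ZMod p) ζ := .of_finite (ZMod p) ζ
  have hfin : Module.finrank (ZMod p) K = a := GaloisField.finrank p hapos.ne'
  obtain ⟨f, hf⟩ : ∃ f, minpoly (ZMod p) ζ = f := ⟨_, rfl⟩
  have hdeg : f.natDegree = a := by
    refine le_antisymm (hf ▸ (minpoly.natDegree_le ζ).trans hfin.le) ?_
    obtain ⟨L, hL⟩ : ∃ L, IntermediateField.adjoin (ZMod p) {ζ} = L := ⟨_, rfl⟩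
    have hLfin : Module.finrank (ZMod p) L = f.natDegree := by
      rw [← hL, IntermediateField.adjoin.finrank hint, hf]
    letI : Fintype L := Fintype.ofFinite L
    have hLcard : Fintype.card L = p ^ f.natDegree := by
      rw [← Nat.card_eq_fintype_card, Module.natCard_eq_pow_finrank (K := ZMod p), Nat.card_zmod, hLfin]
    have h1 := FiniteField.pow_card_sub_one_eq_one
      (⟨ζ, hL ▸ IntermediateField.mem_adjoin_simple_self _ ζ⟩ : L)
      (fun e => hζ0 (congrArg Subtype.val e))
    rw [hLcard] at h1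
    have h2 : ζ ^ (p ^ f.natDegree - 1) = 1 := congrArg Subtype.val h1
    rw [← orderOf_dvd_iff_pow_eq_one, hζ] at h2
    refine Nat.le_of_dvd (hf ▸ minpoly.natDegree_pos hint) ((hdvd _).1 ?_)
    have h3 := (ZMod.natCast_eq_zero_iff (p ^ f.natDegree - 1) q).2 h2
    rw [Nat.cast_sub (Nat.one_le_pow _ _ hp.pos), Nat.cast_pow, Nat.cast_one, sub_eq_zero] at h3
    exact h3
  have hgen : ∀ R : Subring K, ζ ∈ R → R = ⊤ := by
    intro R hR
    have h1 : Algebra.adjoin (ZMod p) {ζ} = ⊤ := by
      have h2 : IntermediateField.adjoin (ZMod p) {ζ} = ⊤ := by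
        refine IntermediateField.eq_of_le_of_finrank_eq le_top ?_
        rw [IntermediateField.adjoin.finrank hint, IntermediateField.finrank_top', hfin, hf, hdeg]
      rw [← IntermediateField.adjoin_simple_toSubalgebra_of_isAlgebraic hint.isAlgebraic, h2,
        IntermediateField.top_toSubalgebra]
    refine eq_top_iff.2 fun z _ => ?_
    have h2 : ∀ w ∈ Algebra.adjoin (ZMod p) {ζ}, w ∈ R := by
      intro w hw
      induction hw using Algebra.adjoin_induction with
      | mem x hx => rw [Set.mem_singleton_iff.1 hx]; exact hR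
      | algebraMap c => rw [← ZMod.natCast_zmod_val c, map_natCast]; exact natCast_mem R _
      | add x y _ _ hx hy => exact R.add_mem hx hy
      | mul x y _ _ hx hy => exact R.mul_mem hx hy
    exact h2 z (h1.symm ▸ Algebra.mem_top)
  have hdeg' : (minpoly (ZMod p) ζ).natDegree = a := by rw [hf, hdeg]
  have hσid : ∀ z : K, z ^ p ^ a = z := fun z => by
    rw [← hK, Nat.card_eq_fintype_card, FiniteField.pow_card]
  rcases Nat.mod_two_eq_zero_or_one a with hev | hodd
  · -- the even case
    obtain ⟨h, rfl⟩ : ∃ h, a = 2 * h := ⟨a / 2, by omega⟩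
    obtain ⟨σ, hσ⟩ : ∃ σ : K →+* K, ∀ z, σ z = z ^ p ^ h :=
      ⟨iterateFrobenius K p h, fun z => iterateFrobenius_def p h z⟩
    have hσσ : ∀ z, σ (σ z) = z := fun z => by
      rw [hσ, hσ, ← pow_mul, ← pow_add, ← two_mul, hσid]
    have hζinv : ζ * σ ζ = 1 := by
      have h1 : (p : ZMod q) ^ h * (p : ZMod q) ^ h = 1 := by
        rw [← pow_add, ← two_mul]; exact (hdvd _).2 dvd_rfl
      have h2 : (p : ZMod q) ^ h ≠ 1 := fun e => by
        have := Nat.le_of_dvd (by omega) ((hdvd h).1 e); omega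
      have h3 : ((p ^ h + 1 : ℕ) : ZMod q) = 0 := by
        push_cast
        rw [(mul_self_eq_one_iff.1 h1).resolve_left h2, neg_add_cancel]
      rw [hσ, ← pow_succ', ← orderOf_dvd_iff_pow_eq_one, hζ, ← ZMod.natCast_eq_zero_iff]
      exact h3
    obtain ⟨W, hW⟩ : ∃ W : AddSubgroup K, ∀ z, z ∈ W ↔ σ z = z :=
      ⟨{ carrier := {z | σ z = z}
         zero_mem' := map_zero σ
         add_mem' := fun {x y} (hx : σ x = x) (hy : σ y = y) => show σ (x + y) = x + y by
           rw [map_add, hx, hy]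
         neg_mem' := fun {x} (hx : σ x = x) => show σ (-x) = -x by rw [map_neg, hx] }, fun _ => Iff.rfl⟩
    have hWle : Nat.card W ≤ p ^ h := by
      by_contra hlt
      push Not at hlt
      letI : Fintype W := Fintype.ofFinite W
      have hne : (X ^ p ^ h - X : K[X]) ≠ 0 :=
        FiniteField.X_pow_card_pow_sub_X_ne_zero K (by omega) hp.one_lt
      refine hne (eq_zero_of_natDegree_lt_card_of_eval_eq_zero _
        (f := fun w : W => (w : K)) Subtype.val_injective (fun w => ?_) ?_)
      · rw [eval_sub, eval_pow, eval_X, ← hσ, (hW _).1 w.2, sub_self]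
      · rw [FiniteField.X_pow_card_pow_sub_X_natDegree_eq K (by omega) hp.one_lt,
          ← Nat.card_eq_fintype_card]
        exact hlt
    obtain ⟨θ, hθ⟩ : ∃ θ : K, σ θ ≠ θ := by
      by_contra hno
      push Not at hno
      have h1 : W = ⊤ := eq_top_iff.2 fun z _ => (hW z).2 (hno z)
      rw [h1, AddSubgroup.card_top, hK] at hWle
      exact absurd hWle (not_le.2 (Nat.pow_lt_pow_right hp.one_lt (by omega)))
    let B : K →+ K →+ K :=
      (AddMonoidHom.mul.comp (AddMonoidHom.mulLeft θ)).compl₂ σ.toAddMonoidHom +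
        AddMonoidHom.mul.comp ((AddMonoidHom.mulLeft (σ θ)).comp σ.toAddMonoidHom)
    have hB : ∀ u v, B u v = θ * u * σ v + σ θ * σ u * v := fun _ _ => rfl
    have hmem : ∀ u v, B u v ∈ W := fun u v => (hW _).2 (by
      simp only [hB, map_add, map_mul, hσσ]; ring)
    let L : K →+ K := B.flip 1 - B 1
    have hL : ∀ u, L u = (θ - σ θ) * (u - σ u) := fun u => by
      show B u 1 - B 1 u = _
      rw [hB, hB, map_one]; ring
    have hrange : L.range ≤ W := by
      rintro _ ⟨u, rfl⟩; exact W.sub_mem (hmem _ _) (hmem _ _)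
    have hker : L.ker ≤ W := fun u hu => by
      rw [AddMonoidHom.mem_ker, hL, mul_eq_zero, sub_eq_zero, sub_eq_zero] at hu
      exact (hW u).2 (hu.resolve_left fun e => hθ e.symm).symm
    have hcard := L.ker.card_mul_index
    rw [AddSubgroup.index_ker, hK] at hcard
    have h1 := Nat.le_of_dvd Nat.card_pos (AddSubgroup.card_dvd_of_le hker)
    have h2 := Nat.le_of_dvd Nat.card_pos (AddSubgroup.card_dvd_of_le hrange)
    have hWc : Nat.card W = p ^ h ∧ Nat.card L.range = p ^ h := by
      have h5 : p ^ (2 * h) = p ^ h * p ^ h := by rw [two_mul, pow_add]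
      constructor
      · refine le_antisymm hWle ?_
        by_contra hlt
        have := Nat.mul_le_mul h1 h2
        have h6 := Nat.mul_lt_mul'' (not_le.1 hlt) (not_le.1 hlt)
        omega
      · refine le_antisymm (h2.trans hWle) ?_
        by_contra hlt
        have h6 := Nat.mul_lt_mul_of_le_of_lt (h1.trans hWle) (not_le.1 hlt) (pow_pos hp.pos h)
        omega
    have hspan : ∀ w ∈ W, ∃ u, B u 1 - B 1 u = w := by
      intro w hw
      have h3 : L.range = W := AddSubgroup.eq_of_le_of_card_ge hrange (by rw [hWc.1, hWc.2])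
      obtain ⟨u, hu⟩ := (h3.symm ▸ hw : w ∈ L.range)
      exact ⟨u, hu⟩
    refine ⟨K, inferInstance, inferInstance, inferInstance, ζ, h,
      ⟨W, B, hmem, fun u v => ?_, hspan⟩, hζ, hK, hWc.1, ?_, hgen, hdeg', Or.inl (by omega)⟩
    · simp only [hB, map_mul]
      linear_combination (θ * u * σ v + σ θ * σ u * v) * hζinv
    · rw [if_neg (by omega)]; omega
  · -- the odd case
    refine ⟨K, inferInstance, inferInstance, inferInstance, ζ, 0,
      ⟨⊥, 0, fun _ _ => AddSubgroup.zero_mem _, fun _ _ => rfl, fun w hw => ⟨0, by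
        rw [AddSubgroup.mem_bot.1 hw]; simp⟩⟩, hζ, hK, by simp, by rw [if_pos hodd]; omega, hgen,
      hdeg', ?_⟩
    by_cases ha1 : a = 1
    · exact Or.inl (by omega)
    refine Or.inr ⟨?_, rfl⟩
    rw [hf]
    have hfsum : ∑ i ∈ Finset.range (a + 1), C (f.coeff i) * X ^ i = f :=
      (hdeg ▸ f.as_sum_range_C_mul_X_pow).symm
    rw [hfsum]
    have hirr : Irreducible f := hf ▸ minpoly.irreducible hint
    refine hirr.coprime_iff_not_dvd.2 fun hd => ?_
    -- `ζ⁻¹` would be a root
    have hroot : aeval ζ⁻¹ f = 0 := by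
      have h1 : aeval ζ (∑ i ∈ Finset.range (a + 1), C (f.coeff i) * X ^ (a - i)) = 0 := by
        obtain ⟨g, hg⟩ := hd
        rw [hg, map_mul, ← hf, minpoly.aeval, zero_mul]
      have h2 : aeval ζ (∑ i ∈ Finset.range (a + 1), C (f.coeff i) * X ^ (a - i)) =
          ζ ^ a * aeval ζ⁻¹ (∑ i ∈ Finset.range (a + 1), C (f.coeff i) * X ^ i) := by
        rw [map_sum, map_sum, Finset.mul_sum]
        refine Finset.sum_congr rfl fun i hi => ?_
        rw [Finset.mem_range] at hi
        rw [map_mul, map_mul, aeval_C, aeval_C, map_pow, map_pow, aeval_X, aeval_X, inv_pow]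
        have : ζ ^ a = ζ ^ (a - i) * ζ ^ i := by rw [← pow_add, Nat.sub_add_cancel (by omega)]
        rw [this, mul_left_comm (ζ ^ (a - i) * ζ ^ i) _ _, mul_assoc (ζ ^ (a - i)), mul_inv_cancel₀ (pow_ne_zero _ hζ0), mul_one]
      rw [h2, hfsum, mul_eq_zero] at h1
      exact h1.resolve_left (pow_ne_zero _ hζ0)
    have hconj : ∀ i : ℕ, aeval (ζ ^ p ^ i) f = 0 := by
      intro i
      let φ : K →ₐ[ZMod p] K :=
        { iterateFrobenius K p i with
          commutes' := fun c => RingHom.congr_fun (Subsingleton.elim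
            ((iterateFrobenius K p i).comp (algebraMap (ZMod p) K)) (algebraMap (ZMod p) K)) c }
      have h1 : φ ζ = ζ ^ p ^ i := iterateFrobenius_def p i ζ
      rw [← h1, aeval_algHom_apply, ← hf, minpoly.aeval, map_zero]
    have hpmod : ∀ i j : ℕ, ζ ^ i = ζ ^ j ↔ (i : ZMod q) = (j : ZMod q) := by
      intro i j
      rw [(isOfFinOrder_iff_pow_eq_one.2 ⟨q, hq.pos, hζ ▸ pow_orderOf_eq_one ζ⟩).pow_eq_pow_iff_modEq,
        hζ, ZMod.natCast_eq_natCast_iff]
    have hnot : ∀ i < a, ζ⁻¹ ≠ ζ ^ p ^ i := by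
      intro i hi e
      have h1 : ((p ^ i + 1 : ℕ) : ZMod q) = ((0 : ℕ) : ZMod q) :=
        (hpmod _ _).1 (by rw [pow_succ, ← e, inv_mul_cancel₀ hζ0, pow_zero])
      push_cast at h1
      have h2 : (p : ZMod q) ^ i = -1 := eq_neg_of_add_eq_zero_left h1
      have h3 : a ∣ 2 * i := (hdvd _).1 (by rw [two_mul, pow_add, h2, neg_one_mul, neg_neg])
      have h4 : a ∣ i := (Nat.Coprime.dvd_of_dvd_mul_left
        (Nat.coprime_two_right.2 (Nat.odd_iff.2 hodd)) h3)
      have h5 : i = 0 := Nat.eq_zero_of_dvd_of_lt h4 hi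
      subst h5
      rw [pow_zero] at h2
      have h6 : ((2 : ℕ) : ZMod q) = 0 := by push_cast; linear_combination h2
      have hq2 : q = 2 :=
        (Nat.prime_dvd_prime_iff_eq hq Nat.prime_two).1 ((ZMod.natCast_eq_zero_iff 2 q).1 h6)
      subst hq2
      have h7 : (p : ZMod 2) = 1 := by
        rcases Nat.mod_two_eq_zero_or_one p with h8 | h8
        · exact absurd ((ZMod.natCast_eq_zero_iff p 2).2 (Nat.dvd_of_mod_eq_zero h8)) hp0
        · rw [← Nat.mod_add_div p 2, h8]
          push_cast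
          rw [show (2 : ZMod 2) = ((2 : ℕ) : ZMod 2) by norm_num, ZMod.natCast_self, zero_mul, add_zero]
      exact ha1 (Nat.eq_one_of_dvd_one ((hdvd 1).1 (by rw [pow_one, h7])))
    have hinj : Function.Injective fun i : Option (Fin a) =>
        i.elim ζ⁻¹ (fun j => ζ ^ p ^ (j : ℕ)) := by
      rintro (_ | ⟨i, hi⟩) (_ | ⟨j, hj⟩) e <;> simp only [Option.elim] at e
      · rfl
      · exact absurd e (hnot j hj)
      · exact absurd e.symm (hnot i hi)
      · have h1 := (hpmod _ _).1 e
        push_cast at h1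
        rw [ha] at hi hj
        exact congrArg some (Fin.ext (pow_injOn_Iio_orderOf hi hj h1))
    have hne : f.map (algebraMap (ZMod p) K) ≠ 0 :=
      Polynomial.map_ne_zero (hf ▸ minpoly.ne_zero hint)
    refine hne (eq_zero_of_natDegree_lt_card_of_eval_eq_zero _ hinj (fun i => ?_) ?_)
    · rw [eval_map, ← aeval_def]
      cases i with
      | none => exact hroot
      | some j => exact hconj _
    · rw [natDegree_map, hdeg, Fintype.card_option, Fintype.card_fin]; omega

/-- An element of order `q` acting irreducibly has a power annihilated by the minimal polynomial of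
any given primitive `q`-th root of unity in a finite field of characteristic `p`. -/
theorem exists_power_root {K : Type} [Field K] [Finite K] [Algebra (ZMod p) K] {ζ : K}
    (hζ : orderOf ζ = q) {V : Type u} [AddCommGroup V] [Module (ZMod p) V]
    (T : Module.End (ZMod p) V) (hT : T ^ q = 1) (hne : T ≠ 1)
    (hirr : ∀ M : Submodule (ZMod p) V, (∀ v ∈ M, T v ∈ M) → M = ⊥ ∨ M = ⊤) :
    ∃ k, k.Coprime q ∧ aeval (T ^ k) (minpoly (ZMod p) ζ) = 0 ∧
      ∀ v, (T ^ k) v = v → v = 0 := by
  classical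
  have hq : q.Prime := Fact.out
  have hnt : Nontrivial (Module.End (ZMod p) V) := ⟨⟨T, 1, hne⟩⟩
  have hprim : IsPrimitiveRoot ζ q := hζ ▸ IsPrimitiveRoot.orderOf ζ
  have hfix : ∀ v, T v = v → v = 0 := by
    intro v hv
    rcases hirr (LinearMap.ker (T - 1)) (fun w hw => by
      rw [LinearMap.mem_ker, LinearMap.sub_apply, Module.End.one_apply, sub_eq_zero] at hw ⊢
      rw [hw, hw]) with h | h
    · have h1 : v ∈ LinearMap.ker (T - 1) := by simp [hv]
      rw [h] at h1
      exact (Submodule.mem_bot (ZMod p)).1 h1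
    · exact absurd (sub_eq_zero.1 (LinearMap.ker_eq_top.1 h)) hne
  have hcyc : aeval T (cyclotomic q (ZMod p)) = 0 := by
    refine LinearMap.ext fun v => hfix _ ?_
    have h1 : aeval T ((X - 1) * cyclotomic q (ZMod p)) = 0 := by
      rw [mul_comm, cyclotomic_prime_mul_X_sub_one]
      simp [hT]
    rw [map_mul, map_sub, aeval_X, map_one] at h1
    exact sub_eq_zero.1 (LinearMap.congr_fun h1 v)
  have hint : IsIntegral (ZMod p) T :=
    ⟨X ^ q - 1, monic_X_pow_sub_C 1 hq.ne_zero, by simp [hT]⟩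
  obtain ⟨g, hgi, hgd⟩ := WfDvdMonoid.exists_irreducible_factor (minpoly.not_isUnit (ZMod p) T)
    (minpoly.ne_zero hint)
  have hg : aeval T g = 0 := by
    obtain ⟨h, hh⟩ := hgd
    have hhne : aeval T h ≠ 0 := by
      intro h0
      have h1 := minpoly.dvd (ZMod p) T h0
      rw [hh] at h1
      have h0' : h ≠ 0 := fun e => minpoly.ne_zero hint (by rw [hh, e, mul_zero])
      exact hgi.not_isUnit (isUnit_of_dvd_one (mul_dvd_mul_iff_right h0' |>.1 (by simpa using h1)))
    rcases hirr (LinearMap.ker (aeval T g)) (fun w hw => by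
      rw [LinearMap.mem_ker] at hw ⊢
      have e : aeval T g * T = T * aeval T g := by
        conv_lhs => arg 2; rw [← aeval_X (R := ZMod p) T]
        conv_rhs => arg 1; rw [← aeval_X (R := ZMod p) T]
        rw [← map_mul, ← map_mul, mul_comm]
      rw [← Module.End.mul_apply, e, Module.End.mul_apply, hw, map_zero]) with hb | hb
    · refine absurd (LinearMap.ext fun v => ?_) hhne
      have h2 : aeval T g (aeval T h v) = 0 := by
        rw [← Module.End.mul_apply, ← map_mul, ← hh, minpoly.aeval, LinearMap.zero_apply]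
      have h3 : aeval T h v ∈ LinearMap.ker (aeval T g) := LinearMap.mem_ker.2 h2
      rw [hb] at h3
      exact (Submodule.mem_bot (ZMod p)).1 h3
    · exact LinearMap.ker_eq_top.1 hb
  have hgc : g ∣ cyclotomic q (ZMod p) := hgd.trans (minpoly.dvd _ _ hcyc)
  -- a root of `g` is a power of `ζ`
  obtain ⟨m, hm, hgm⟩ : ∃ m, m.Coprime q ∧ aeval (ζ ^ m) g = 0 := by
    have hsplit : (cyclotomic q K).Splits := by
      rw [cyclotomic_eq_prod_X_sub_primitiveRoots hprim]
      exact Polynomial.Splits.prod fun _ _ => Polynomial.Splits.X_sub_C _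
    have hgK : (g.map (algebraMap (ZMod p) K)).Splits :=
      Polynomial.Splits.of_dvd hsplit (cyclotomic_ne_zero q K)
        (map_cyclotomic q (algebraMap (ZMod p) K) ▸ Polynomial.map_dvd _ hgc)
    obtain ⟨z, hz⟩ := hgK.exists_eval_eq_zero (by
      rw [degree_map]; exact (degree_pos_of_irreducible hgi).ne')
    have hz' : IsPrimitiveRoot z q := by
      haveI : NeZero (q : K) := hprim.neZero'
      rw [← isRoot_cyclotomic_iff, IsRoot.def, ← map_cyclotomic q (algebraMap (ZMod p) K)]
      obtain ⟨w, hw⟩ := hgc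
      rw [hw, Polynomial.map_mul, eval_mul, hz, zero_mul]
    obtain ⟨m, -, hm, rfl⟩ := hprim.isPrimitiveRoot_iff.1 hz'
    exact ⟨m, hm, by rwa [aeval_def, ← eval_map]⟩
  obtain ⟨k, hk⟩ : ∃ k : ℕ, (m * k) ≡ 1 [MOD q] := by
    obtain ⟨k, -, hk⟩ := Nat.exists_mul_mod_eq_one_of_coprime hm hq.one_lt
    exact ⟨k, by rw [Nat.ModEq, hk, Nat.mod_eq_of_lt hq.one_lt]⟩
  have hkq : k.Coprime q := by
    refine (hq.coprime_iff_not_dvd.2 fun hd => ?_).symm
    have h1 : m * k ≡ 0 [MOD q] := Nat.modEq_zero_iff_dvd.2 (hd.mul_left m)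
    have h2 := Nat.modEq_zero_iff_dvd.1 (hk.symm.trans h1)
    exact hq.not_dvd_one h2
  have hint' : IsIntegral (ZMod p) ζ := .of_finite (ZMod p) ζ
  have hann : aeval (T ^ k) (minpoly (ZMod p) ζ) = 0 := by
    have hd : g ∣ (minpoly (ZMod p) ζ).comp (X ^ k) := by
      have h1 : aeval (ζ ^ m) ((minpoly (ZMod p) ζ).comp (X ^ k)) = 0 := by
        rw [aeval_comp, map_pow, aeval_X, ← pow_mul]
        have e : ζ ^ (m * k) = ζ := by
          conv_rhs => rw [← pow_one ζ]
          rw [(isOfFinOrder_iff_pow_eq_one.2 ⟨q, hq.pos, hprim.pow_eq_one⟩).pow_eq_pow_iff_modEq, hζ]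
          exact hk
        rw [e, minpoly.aeval]
      refine dvd_trans ?_ (minpoly.dvd (ZMod p) _ h1)
      exact (hgi.associated_of_dvd (minpoly.irreducible (.of_finite (ZMod p) _))
        ((dvd_refl g).trans (by
          have h2 := minpoly.dvd (ZMod p) (ζ ^ m) hgm
          exact ((minpoly.irreducible (.of_finite (ZMod p) _)).associated_of_dvd hgi h2).symm.dvd))).dvd
    obtain ⟨w, hw⟩ := hd
    have h2 := congrArg (aeval T) hw
    rwa [map_mul, hg, zero_mul, aeval_comp, map_pow, aeval_X] at h2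
  refine ⟨k, hkq, hann, fun v hv => ?_⟩
  by_contra hv0
  obtain ⟨b, hb⟩ : ∃ b, (minpoly (ZMod p) ζ).eval 1 = b := ⟨_, rfl⟩
  have h1 : aeval (T ^ k) (minpoly (ZMod p) ζ) v = b • v := by
    have key : ∀ P : (ZMod p)[X], aeval (T ^ k) P v = P.eval 1 • v := by
      intro P
      induction P using Polynomial.induction_on' with
      | add P Q hP hQ => rw [map_add, LinearMap.add_apply, hP, hQ, eval_add, add_smul]
      | monomial i c =>
        have hvi : ∀ i : ℕ, ((T ^ k) ^ i) v = v := by
          intro i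
          induction i with
          | zero => simp
          | succ i ih => rw [pow_succ, Module.End.mul_apply, hv, ih]
        rw [aeval_monomial, Module.End.mul_apply, hvi, Module.algebraMap_end_apply, eval_monomial,
          one_pow, mul_one]
    rw [key, hb]
  rw [hann, LinearMap.zero_apply] at h1
  have hb0 : b ≠ 0 := by
    intro h0
    have h3 : (X - C 1) ∣ minpoly (ZMod p) ζ := dvd_iff_isRoot.2 (hb.trans h0)
    obtain ⟨w, hw⟩ := (irreducible_X_sub_C (1 : ZMod p)).associated_of_dvd (minpoly.irreducible hint') h3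
    have h4 := congrArg (aeval ζ) hw
    rw [map_mul, minpoly.aeval, mul_eq_zero, map_sub, aeval_X, aeval_C, map_one, sub_eq_zero] at h4
    rcases h4 with h4 | h4
    · exact hprim.ne_one hq.one_lt h4
    · exact (w.isUnit.map (aeval ζ)).ne_zero h4
  exact hv0 ((smul_eq_zero.1 h1.symm).resolve_left hb0)

end CfsgLib.SchmidtUniversal
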