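import Mathlib.GroupTheory.Commutator.Basic
import Mathlib.GroupTheory.Abelianization.Defs
import Mathlib.GroupTheory.QuotientGroup.Basic
import Mathlib.LinearAlgebra.FiniteDimensional.Basic
import Mathlib.Algebra.Polynomial.Module.Basic
import Mathlib.Algebra.Field.ZMod
import Mathlib.Algebra.Module.ZMod
import Mathlib.RingTheory.Polynomial.Basic
import Mathlib.Tactic.Group
import Mathlib.Tactic.Abel

/-!
# The order bound for central extensions of an irreducible cyclic action

If the conjugates `xᵢ` of `x` under `y` commute modulo the centre, have central `p`-th powers, and a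
monic polynomial of degree `a` annihilates `x` modulo the centre, then the twisted generators
`xᵢ₊₁ xᵢ⁻¹` generate, with `y`, a group of order at most `p ^ (a + h) * n`.
-/

set_option autoImplicit false
set_option linter.style.haveILetI false
set_option linter.unusedSectionVars false

namespace CfsgLib.SchmidtUniversal

open Finset Polynomial
open scoped commutatorElement

/-- A two-sided recurrence of order at most `2 * h + 1` for an odd sequence is spanned by the first
`h` values. -/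
theorem seq_mem_span {R M : Type*} [Ring R] [AddCommGroup M] [Module R M] {E : ℤ → M}
    (c : ℕ → R) (a h : ℕ) (hca : c a = 1) (ha : a ≤ 2 * h + 1)
    (hanti : ∀ d, E (-d) = - E d) (h0 : E 0 = 0)
    (hrec : ∀ d : ℤ, ∑ i ∈ range (a + 1), c i • E (d + i) = 0) :
    ∀ d, E d ∈ Submodule.span R (Set.range fun j : Fin h => E ((j : ℕ) + 1)) := by
  intro d
  obtain ⟨L, hL⟩ : ∃ L, Submodule.span R (Set.range fun j : Fin h => E ((j : ℕ) + 1)) = L :=
    ⟨_, rfl⟩
  rw [hL]
  have hgen : ∀ m : ℕ, 1 ≤ m → m ≤ h → E m ∈ L := fun m h1 h2 => hL ▸ Submodule.subset_span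
    ⟨⟨m - 1, by omega⟩, by
      show E (((m - 1 : ℕ) : ℤ) + 1) = E m
      congr 1; omega⟩
  have hbase : ∀ d : ℤ, -(h : ℤ) ≤ d → d ≤ h → E d ∈ L := by
    intro d h1 h2
    rcases lt_trichotomy d 0 with hd | hd | hd
    · have h3 := hgen (-d).toNat (by omega) (by omega)
      rw [Int.toNat_of_nonneg (by omega), hanti] at h3
      exact (Submodule.neg_mem_iff L).1 h3
    · rw [hd, h0]; exact L.zero_mem
    · have h3 := hgen d.toNat (by omega) (by omega)
      rwa [Int.toNat_of_nonneg (by omega)] at h3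
  have hup : ∀ k : ℕ, ∀ d : ℤ, -(h : ℤ) ≤ d → d ≤ (h : ℤ) + k → E d ∈ L := by
    intro k
    induction k with
    | zero => intro d h1 h2; exact hbase d h1 (by omega)
    | succ k ih =>
      intro d h1 h2
      rcases lt_or_eq_of_le h2 with h3 | h3
      · exact ih d h1 (by omega)
      · have h4 := hrec (d - a)
        rw [sum_range_succ, hca, one_smul, sub_add_cancel] at h4
        rw [eq_neg_of_add_eq_zero_right h4]
        refine L.neg_mem (L.sum_mem fun i hi => L.smul_mem _ (ih _ ?_ ?_))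
        · push_cast at h3; omega
        · have := mem_range.1 hi
          push_cast at h3; omega
  rcases le_or_gt (-(h : ℤ)) d with h1 | h1
  · exact hup (d - h).toNat d h1 (by omega)
  · have h2 := hup (-d - h).toNat (-d) (by omega) (by omega)
    rw [hanti] at h2
    exact (Submodule.neg_mem_iff L).1 h2

/-- An odd sequence annihilated by coprime polynomials `f` and its reverse vanishes. -/
theorem seq_eq_zero {p : ℕ} {M : Type*} [AddCommGroup M] [Module (ZMod p) M] {E : ℤ → M}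
    (c : ℕ → ZMod p) (a : ℕ) (hanti : ∀ d, E (-d) = - E d)
    (hrec : ∀ d : ℤ, ∑ i ∈ range (a + 1), c i • E (d + i) = 0)
    (hcop : IsCoprime (∑ i ∈ range (a + 1), C (c i) * X ^ i)
      (∑ i ∈ range (a + 1), C (c i) * X ^ (a - i))) :
    ∀ d, E d = 0 := by
  let S : Module.End (ZMod p) (ℤ → M) :=
    { toFun := fun F d => F (d + 1)
      map_add' := fun _ _ => rfl
      map_smul' := fun _ _ => rfl }
  have hpow : ∀ (i : ℕ) (F : ℤ → M) (d : ℤ), (S ^ i) F d = F (d + i) := by
    intro i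
    induction i with
    | zero => intro F d; simp
    | succ i ih =>
      intro F d
      rw [pow_succ, Module.End.mul_apply, ih]
      show F (d + i + 1) = _
      rw [add_assoc]; congr 1
  have key : ∀ (e : ℕ → ℕ) (d : ℤ),
      (aeval S (∑ i ∈ range (a + 1), C (c i) * X ^ (e i))) E d =
        ∑ i ∈ range (a + 1), c i • E (d + (e i : ℕ)) := by
    intro e d
    rw [map_sum, LinearMap.sum_apply, Finset.sum_apply]
    refine sum_congr rfl fun i _ => ?_
    rw [map_mul, aeval_C, map_pow, aeval_X, Module.End.mul_apply,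
      Module.algebraMap_end_apply, Pi.smul_apply, hpow]
  have h1 : (aeval S (∑ i ∈ range (a + 1), C (c i) * X ^ i)) E = 0 :=
    funext fun d => (key (fun i => i) d).trans (hrec d)
  have h2 : (aeval S (∑ i ∈ range (a + 1), C (c i) * X ^ (a - i))) E = 0 := by
    funext d
    rw [key (fun i => a - i) d]
    have h := hrec (-d - a)
    have e : ∀ i ∈ range (a + 1), c i • E (d + ((a - i : ℕ) : ℤ)) = -(c i • E (-d - a + i)) := by
      intro i hi
      have := mem_range.1 hi
      rw [← smul_neg, ← hanti]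
      congr 2
      omega
    rw [sum_congr rfl e, sum_neg_distrib, h, neg_zero, Pi.zero_apply]
  obtain ⟨u, v, huv⟩ := hcop
  have h3 := congrArg (fun g => (aeval S g) E) huv
  simp only [map_add, map_mul, map_one, LinearMap.add_apply, Module.End.mul_apply, h1, h2,
    map_zero, add_zero, Module.End.one_apply] at h3
  exact fun d => (congrFun h3 d).symm

theorem comm_mul_right {G : Type*} [Group G] (g u v : G) (hv : ⁅g, v⁆ ∈ Subgroup.center G) :
    ⁅g, u * v⁆ = ⁅g, u⁆ * ⁅g, v⁆ := by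
  have h := Subgroup.mem_center_iff.1 hv u
  calc ⁅g, u * v⁆ = ⁅g, u⁆ * (u * ⁅g, v⁆) * u⁻¹ := by
        simp only [commutatorElement_def]; group
    _ = ⁅g, u⁆ * ⁅g, v⁆ := by rw [h]; group

/-- The conjugates of `x` under the powers of `y`. -/
def orb {S : Type*} [Group S] (y x : S) (i : ℤ) : S := y ^ i * x * (y ^ i)⁻¹

theorem orb_conj {S : Type*} [Group S] (y x : S) (i j : ℤ) :
    y ^ j * orb y x i * (y ^ j)⁻¹ = orb y x (j + i) := by
  simp only [orb, zpow_add]; group

/-- The bound. -/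
theorem bound {S : Type*} [Group S] [Finite S] (p : ℕ) [Fact p.Prime] (x y : S) (a h n : ℕ)
    (c : ℕ → ZMod p) (hca : c a = 1) (hn : 0 < n) (hy : y ^ n = 1)
    (hcomm : ∀ i j : ℤ, ⁅orb y x i, orb y x j⁆ ∈ Subgroup.center S)
    (hxp : x ^ p ∈ Subgroup.center S)
    (hR : ((List.range (a + 1)).map fun i : ℕ => orb y x i ^ (c i).val).prod ∈ Subgroup.center S)
    (hh : a ≤ 2 * h + 1 ∨ (IsCoprime (∑ i ∈ range (a + 1), C (c i) * X ^ i)
      (∑ i ∈ range (a + 1), C (c i) * X ^ (a - i)) ∧ h = 0)) :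
    ∃ H : Subgroup S, y ∈ H ∧ y * x * y⁻¹ * x⁻¹ ∈ H ∧ Nat.card H ≤ p ^ (a + h) * n := by
  classical
  have hp : p.Prime := Fact.out
  -- the group generated by the conjugates
  obtain ⟨Hx, hHx⟩ : ∃ Hx, Subgroup.closure (Set.range (orb y x)) = Hx := ⟨_, rfl⟩
  have horb : ∀ i, orb y x i ∈ Hx := fun i => hHx ▸ Subgroup.subset_closure ⟨i, rfl⟩
  have hcen : ∀ j, ∀ u ∈ Hx, ⁅orb y x j, u⁆ ∈ Subgroup.center S := by
    intro j u hu
    rw [← hHx] at hu
    induction hu using Subgroup.closure_induction with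
    | mem u hu => obtain ⟨i, rfl⟩ := hu; exact hcomm j i
    | one => rw [commutatorElement_one_right]; exact one_mem _
    | mul u v _ _ ihu ihv => rw [comm_mul_right _ _ _ ihv]; exact mul_mem ihu ihv
    | inv u _ ih =>
      have e : ⁅orb y x j, u⁻¹⁆ = ⁅orb y x j, u⁆⁻¹ := by
        have h := Subgroup.mem_center_iff.1 (inv_mem ih) u⁻¹
        calc ⁅orb y x j, u⁻¹⁆ = (u⁻¹ * ⁅orb y x j, u⁆⁻¹) * u := by
              simp only [commutatorElement_def]; group
          _ = ⁅orb y x j, u⁆⁻¹ := by rw [h]; group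
      rw [e]; exact inv_mem ih
  have hpair : ∀ j, ∀ u ∈ Hx, ∀ v ∈ Hx, ⁅orb y x j, u * v⁆ = ⁅orb y x j, u⁆ * ⁅orb y x j, v⁆ :=
    fun j u _ v hv => comm_mul_right _ _ _ (hcen j v hv)
  have hpw : ∀ j, ∀ u ∈ Hx, ∀ k : ℕ, ⁅orb y x j, u ^ k⁆ = ⁅orb y x j, u⁆ ^ k := by
    intro j u hu k
    induction k with
    | zero => rw [pow_zero, pow_zero, commutatorElement_one_right]
    | succ k ih => rw [pow_succ, hpair j _ (pow_mem hu k) _ hu, ih, pow_succ]
  have horbp : ∀ i, orb y x i ^ p = x ^ p := by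
    intro i
    rw [orb, conj_pow, Subgroup.mem_center_iff.1 hxp, mul_inv_cancel_right]
  -- the central elements of order dividing `p`
  obtain ⟨Zp, hZp⟩ : ∃ Zp : Subgroup S, ∀ z, z ∈ Zp ↔ z ∈ Subgroup.center S ∧ z ^ p = 1 :=
    ⟨{ carrier := {z | z ∈ Subgroup.center S ∧ z ^ p = 1}
       one_mem' := ⟨one_mem _, one_pow _⟩
       mul_mem' := fun {u v} hu hv => ⟨mul_mem hu.1 hv.1, by
         have : Commute u v := (Subgroup.mem_center_iff.1 hu.1 v).symm
         rw [this.mul_pow, hu.2, hv.2, mul_one]⟩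
       inv_mem' := fun {u} hu => ⟨inv_mem hu.1, by rw [inv_pow, hu.2, inv_one]⟩ }, fun _ => Iff.rfl⟩
  letI : CommGroup Zp :=
    { (inferInstance : Group Zp) with
      mul_comm := fun u v => Subtype.ext
        (Subgroup.mem_center_iff.1 ((hZp _).1 v.2).1 (u : S)) }
  have hZp0 : ∀ z : Additive Zp, p • z = 0 := fun z => by
    refine Additive.toMul.injective (Subtype.ext ?_)
    rw [toMul_nsmul]
    simpa using ((hZp _).1 (Additive.toMul z).2).2
  letI : Module (ZMod p) (Additive Zp) := AddCommGroup.zmodModule (n := p) hZp0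
  have heZ : ∀ i j, ⁅orb y x i, orb y x j⁆ ∈ Zp := by
    intro i j
    rw [hZp]
    refine ⟨hcomm i j, ?_⟩
    rw [← hpw i _ (horb j) p, horbp, commutatorElement_eq_one_iff_commute]
    exact Subgroup.mem_center_iff.1 hxp _
  obtain ⟨E, hE⟩ : ∃ E : ℤ → Additive Zp, ∀ d,
      ((Additive.toMul (E d) : Zp) : S) = ⁅orb y x 0, orb y x d⁆ :=
    ⟨fun d => Additive.ofMul ⟨_, heZ 0 d⟩, fun _ => rfl⟩
  have hshift : ∀ i j, ⁅orb y x i, orb y x j⁆ = ((Additive.toMul (E (j - i)) : Zp) : S) := by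
    intro i j
    rw [hE]
    have e : ∀ g u v : S, g * ⁅u, v⁆ * g⁻¹ = ⁅g * u * g⁻¹, g * v * g⁻¹⁆ := by
      intro g u v; simp only [commutatorElement_def]; group
    have h := e (y ^ i) (orb y x 0) (orb y x (j - i))
    rw [Subgroup.mem_center_iff.1 (hcomm 0 (j - i)), mul_inv_cancel_right, orb_conj, orb_conj,
      add_zero, add_sub_cancel] at h
    exact h.symm
  have hE0 : E 0 = 0 := Additive.toMul.injective (Subtype.ext (by
    rw [hE, commutatorElement_self]; rfl))
  have hanti : ∀ d, E (-d) = - E d := by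
    intro d
    refine Additive.toMul.injective (Subtype.ext ?_)
    have h1 := hshift d 0
    rw [zero_sub, ← commutatorElement_inv, ← hE] at h1
    exact h1.symm
  have hprod : ∀ (j : ℤ) (m : ℕ),
      ⁅orb y x j, ((List.range m).map fun i : ℕ => orb y x i ^ (c i).val).prod⁆ =
        ((Additive.toMul (∑ i ∈ range m, c i • E (i - j)) : Zp) : S) := by
    intro j m
    induction m with
    | zero => simp
    | succ m ih =>
      rw [List.range_succ, List.map_append, List.prod_append, List.map_singleton,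
        List.prod_singleton, sum_range_succ, hpair j _ (Subgroup.list_prod_mem _ ?_) _
          (pow_mem (horb _) _), ih, hpw j _ (horb _), hshift, toMul_add, Subgroup.coe_mul]
      · congr 1
        conv_rhs => rw [← ZMod.natCast_zmod_val (c m), Nat.cast_smul_eq_nsmul, toMul_nsmul]
        rfl
      · intro u hu
        obtain ⟨i, -, rfl⟩ := List.mem_map.1 hu
        exact pow_mem (horb _) _
  have hrec : ∀ d : ℤ, ∑ i ∈ range (a + 1), c i • E (d + i) = 0 := by
    intro d
    have h1 := hprod (-d) (a + 1)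
    rw [commutatorElement_eq_one_iff_commute.2 (Subgroup.mem_center_iff.1 hR _)] at h1
    refine Additive.toMul.injective (Subtype.ext ?_)
    rw [show ∑ i ∈ range (a + 1), c i • E (d + i) = ∑ i ∈ range (a + 1), c i • E ((i : ℤ) - -d) from
      sum_congr rfl fun i _ => by rw [sub_neg_eq_add, add_comm]]
    exact h1.symm
  obtain ⟨L, hL⟩ : ∃ L : Submodule (ZMod p) (Additive Zp),
      Submodule.span (ZMod p) (Set.range fun j : Fin h => E ((j : ℕ) + 1)) = L :=
    ⟨_, rfl⟩
  have hEL : ∀ d, E d ∈ L := by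
    rcases hh with hh | ⟨hh, -⟩
    · exact hL ▸ seq_mem_span c a h hca hh hanti hE0 hrec
    · intro d; rw [seq_eq_zero c a hanti hrec hh d]; exact L.zero_mem
  -- the subgroup of the commutators
  obtain ⟨C1, hC1⟩ : ∃ C1 : Subgroup S, ∀ z, z ∈ C1 ↔
      ∃ e : Additive Zp, e ∈ L ∧ ((Additive.toMul e : Zp) : S) = z :=
    ⟨{ carrier := {z | ∃ e : Additive Zp, e ∈ L ∧ ((Additive.toMul e : Zp) : S) = z}
       one_mem' := ⟨0, L.zero_mem, rfl⟩
       mul_mem' := by
         rintro _ _ ⟨e, he, rfl⟩ ⟨f, hf, rfl⟩; exact ⟨e + f, L.add_mem he hf, rfl⟩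
       inv_mem' := by rintro _ ⟨e, he, rfl⟩; exact ⟨-e, L.neg_mem he, rfl⟩ }, fun _ => Iff.rfl⟩
  have hC1card : Nat.card C1 ≤ p ^ h := by
    have h1 : Nat.card C1 ≤ Nat.card L := by
      refine Nat.card_le_card_of_surjective
        (fun e : L => (⟨_, (hC1 _).2 ⟨e, e.2, rfl⟩⟩ : C1)) ?_
      rintro ⟨z, hz⟩
      obtain ⟨e, he, rfl⟩ := (hC1 z).1 hz
      exact ⟨⟨e, he⟩, rfl⟩
    haveI : Finite (Additive Zp) := Finite.of_equiv Zp Additive.ofMul
    have h2 : Nat.card L ≤ Nat.card (Fin h → ZMod p) := by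
      refine Nat.card_le_card_of_surjective
        (fun k => (⟨∑ j, k j • E ((j : ℕ) + 1), L.sum_mem fun j _ => L.smul_mem _ (hEL _)⟩ : L)) ?_
      rintro ⟨e, he⟩
      rw [← hL, Submodule.mem_span_range_iff_exists_fun] at he
      obtain ⟨k, hk⟩ := he
      exact ⟨k, Subtype.ext hk⟩
    rw [Nat.card_fun, Nat.card_fin, Nat.card_zmod] at h2
    omega
  have hC1c : C1 ≤ Subgroup.center S := fun z hz => by
    obtain ⟨e, -, rfl⟩ := (hC1 z).1 hz
    exact ((hZp _).1 (Additive.toMul e).2).1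
  haveI hC1n : C1.Normal := ⟨fun z hz g => by
    rw [Subgroup.mem_center_iff.1 (hC1c hz) g, mul_inv_cancel_right]; exact hz⟩
  have hHxc : ∀ u ∈ Hx, ∀ v ∈ Hx, ⁅u, v⁆ ∈ C1 := by
    have h1 : ∀ j, ∀ u ∈ Hx, ⁅orb y x j, u⁆ ∈ C1 := by
      intro j u hu
      rw [← hHx] at hu
      induction hu using Subgroup.closure_induction with
      | mem u hu => obtain ⟨i, rfl⟩ := hu; exact (hC1 _).2 ⟨_, hEL _, (hshift j i).symm⟩
      | one => rw [commutatorElement_one_right]; exact one_mem _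
      | mul u v hu hv ihu ihv =>
        rw [comm_mul_right _ _ _ (hC1c ihv)]; exact mul_mem ihu ihv
      | inv u hu ih =>
        have e : ⁅orb y x j, u⁻¹⁆ = u⁻¹ * ⁅orb y x j, u⁆⁻¹ * u⁻¹⁻¹ := by
          simp only [commutatorElement_def]; group
        rw [e]; exact hC1n.conj_mem _ (inv_mem ih) _
    intro u hu v hv
    rw [← hHx] at hu
    induction hu using Subgroup.closure_induction with
    | mem u hu => obtain ⟨i, rfl⟩ := hu; exact h1 i v hv
    | one => rw [commutatorElement_one_left]; exact one_mem _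
    | mul u w hu hw ihu ihw =>
      have e : ⁅u * w, v⁆ = u * ⁅w, v⁆ * u⁻¹ * ⁅u, v⁆ := by
        simp only [commutatorElement_def]; group
      rw [e]; exact mul_mem (hC1n.conj_mem _ ihw _) ihu
    | inv u hu ih =>
      have e : ⁅u⁻¹, v⁆ = u⁻¹ * ⁅u, v⁆⁻¹ * u⁻¹⁻¹ := by
        simp only [commutatorElement_def]; group
      rw [e]; exact hC1n.conj_mem _ (inv_mem ih) _
  -- the twisted generators, modulo `C1`
  obtain ⟨t, ht⟩ : ∃ t : ℕ → S, ∀ i : ℕ, t i = orb y x ((i : ℤ) + 1) * (orb y x i)⁻¹ :=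
    ⟨_, fun _ => rfl⟩
  have htH : ∀ i, t i ∈ Hx := fun i => ht i ▸ mul_mem (horb _) (inv_mem (horb _))
  obtain ⟨π, hπker, -⟩ : ∃ π : S →* S ⧸ C1, π.ker = C1 ∧ π = QuotientGroup.mk' C1 :=
    ⟨_, QuotientGroup.ker_mk' C1, rfl⟩
  obtain ⟨Ab, hAb⟩ : ∃ Ab, Hx.map π = Ab := ⟨_, rfl⟩
  letI : CommGroup Ab :=
    { (inferInstance : Group Ab) with
      mul_comm := by
        rintro ⟨u, hu⟩ ⟨v, hv⟩
        refine Subtype.ext ?_
        obtain ⟨u, hu', rfl⟩ : u ∈ Hx.map π := hAb.symm ▸ hu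
        obtain ⟨v, hv', rfl⟩ : v ∈ Hx.map π := hAb.symm ▸ hv
        show π u * π v = π v * π u
        exact (commutatorElement_eq_one_iff_commute.1
          (by rw [← map_commutatorElement, ← MonoidHom.mem_ker, hπker]; exact hHxc u hu' v hv')) }
  obtain ⟨ρ, hρ⟩ : ∃ ρ : Hx →* Ab, ∀ u : Hx, ((ρ u : Ab) : S ⧸ C1) = π u :=
    ⟨((π.comp Hx.subtype).codRestrict Ab fun u => hAb ▸ ⟨u, u.2, rfl⟩), fun _ => rfl⟩
  obtain ⟨τ, hτ⟩ : ∃ τ : ℕ → Ab, ∀ i, ((τ i : Ab) : S ⧸ C1) = π (t i) :=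
    ⟨fun i => ⟨_, hAb ▸ ⟨t i, htH i, rfl⟩⟩, fun _ => rfl⟩
  obtain ⟨o, ho⟩ : ∃ o : ℤ → Ab, ∀ i, ((o i : Ab) : S ⧸ C1) = π (orb y x i) :=
    ⟨fun i => ⟨_, hAb ▸ ⟨_, horb i, rfl⟩⟩, fun _ => rfl⟩
  have hτo : ∀ i : ℕ, τ i = o ((i : ℤ) + 1) * (o i)⁻¹ := fun i => Subtype.ext (by
    rw [hτ, ht, map_mul, map_inv, Subgroup.coe_mul, Subgroup.coe_inv, ho, ho])
  have hop : ∀ i, o i ^ p = o 0 ^ p := fun i => Subtype.ext (by
    rw [Subgroup.coe_pow, Subgroup.coe_pow, ho, ho, ← map_pow, ← map_pow, horbp, horbp])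
  have hτp : ∀ i, τ i ^ p = 1 := fun i => by
    rw [hτo, mul_pow, inv_pow, hop, hop (i : ℤ), mul_inv_cancel]
  have hRR : ∀ j : ℤ, ∏ i ∈ range (a + 1), o (j + i) ^ (c i).val =
      ∏ i ∈ range (a + 1), o i ^ (c i).val := by
    have hlist : ∀ (j : ℤ) (m : ℕ), ((∏ i ∈ range m, o (j + i) ^ (c i).val : Ab) : S ⧸ C1) =
        π (y ^ j * ((List.range m).map fun i : ℕ => orb y x i ^ (c i).val).prod * (y ^ j)⁻¹) := by
      intro j m
      induction m with
      | zero => simp
      | succ m ih =>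
        rw [prod_range_succ, Subgroup.coe_mul, ih, Subgroup.coe_pow, ho, List.range_succ,
          List.map_append, List.prod_append, List.map_singleton, List.prod_singleton, ← map_pow,
          ← map_mul, ← orb_conj y x m j, conj_pow]
        group
    intro j
    refine Subtype.ext ?_
    rw [hlist, show (∏ i ∈ range (a + 1), o i ^ (c i).val) =
      ∏ i ∈ range (a + 1), o (0 + i) ^ (c i).val by simp, hlist,
      Subgroup.mem_center_iff.1 hR, Subgroup.mem_center_iff.1 hR]
    simp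
  obtain ⟨Lt, hLt⟩ : ∃ Lt, Subgroup.closure (Set.range fun i : Fin a => τ i) = Lt := ⟨_, rfl⟩
  have hτa : τ a ∈ Lt := by
    have h1 : ∏ i ∈ range (a + 1), τ i ^ (c i).val = 1 := by
      simp only [hτo, mul_pow, inv_pow, prod_mul_distrib, prod_inv_distrib]
      rw [mul_inv_eq_one]
      refine Eq.trans ?_ (hRR 1)
      exact prod_congr rfl fun i _ => by rw [add_comm]
    rw [prod_range_succ, hca, ZMod.val_one, pow_one, mul_eq_one_iff_eq_inv'] at h1
    rw [h1]
    refine inv_mem (prod_mem fun i hi => pow_mem ?_ _)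
    exact hLt ▸ Subgroup.subset_closure ⟨⟨i, mem_range.1 hi⟩, rfl⟩
  have hLtcard : Nat.card Lt ≤ p ^ a := by
    have h1 : ∀ u ∈ Lt, ∃ k : Fin a → Fin p, ∏ i : Fin a, τ i ^ (k i : ℕ) = u := by
      intro u hu
      rw [← hLt] at hu
      induction hu using Subgroup.closure_induction with
      | mem u hu =>
        obtain ⟨i, rfl⟩ := hu
        refine ⟨fun j => if j = i then ⟨1, hp.one_lt⟩ else ⟨0, hp.pos⟩, ?_⟩
        rw [prod_eq_single i (fun j _ hj => by simp [hj]) (by simp)]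
        simp
      | one => exact ⟨fun _ => ⟨0, hp.pos⟩, by simp⟩
      | mul u v _ _ ihu ihv =>
        obtain ⟨k, rfl⟩ := ihu
        obtain ⟨l, rfl⟩ := ihv
        refine ⟨fun i => ⟨((k i : ℕ) + l i) % p, Nat.mod_lt _ hp.pos⟩, ?_⟩
        rw [← prod_mul_distrib]
        exact prod_congr rfl fun i _ => by
          rw [← pow_add]; exact (pow_eq_pow_mod _ (hτp i)).symm
      | inv u _ ihu =>
        obtain ⟨k, rfl⟩ := ihu
        refine ⟨fun i => ⟨(p - k i) % p, Nat.mod_lt _ hp.pos⟩, ?_⟩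
        rw [← prod_inv_distrib]
        exact prod_congr rfl fun i _ => by
          rw [eq_inv_iff_mul_eq_one, ← pow_eq_pow_mod _ (hτp i), ← pow_add,
            Nat.sub_add_cancel (k i).isLt.le, hτp]
    calc Nat.card Lt ≤ Nat.card (Fin a → Fin p) := Nat.card_le_card_of_surjective
          (fun k => (⟨∏ i : Fin a, τ i ^ (k i : ℕ), prod_mem fun i _ => pow_mem
            (hLt ▸ Subgroup.subset_closure ⟨i, rfl⟩) _⟩ : Lt))
          fun u => (h1 u u.2).imp fun k hk => Subtype.ext hk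
      _ = p ^ a := by rw [Nat.card_fun, Nat.card_fin, Nat.card_fin]
  -- pull back
  obtain ⟨N, hN⟩ : ∃ N : Subgroup S, N = (Lt.map Ab.subtype).comap π := ⟨_, rfl⟩
  have hC1N : C1 ≤ N := fun z hz => by
    rw [hN, Subgroup.mem_comap, MonoidHom.mem_ker.1 (hπker.symm ▸ hz)]; exact one_mem _
  have hNcard : Nat.card N ≤ p ^ (a + h) := by
    obtain ⟨f, hf⟩ : ∃ f : N →* S ⧸ C1, f = π.comp N.subtype := ⟨_, rfl⟩
    have h1 := f.ker.card_mul_index
    rw [Subgroup.index_ker] at h1
    have h2 : Nat.card f.ker ≤ Nat.card C1 := Nat.card_le_card_of_injective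
      (fun u => (⟨((u : N) : S), by
        have h4 : π ((u : N) : S) = 1 :=
          (DFunLike.congr_fun hf (u : N)).symm.trans (MonoidHom.mem_ker.1 u.2)
        exact (SetLike.ext_iff.1 hπker _).1 (MonoidHom.mem_ker.2 h4)⟩ : C1))
      fun u v e => Subtype.ext (Subtype.ext (congrArg (fun z : C1 => (z : S)) e))
    have h3 : Nat.card f.range ≤ Nat.card Lt := by
      refine (Nat.le_of_dvd Nat.card_pos (Subgroup.card_dvd_of_le (?_ : f.range ≤ Lt.map Ab.subtype))).trans
        (Subgroup.card_map_of_injective Ab.subtype_injective).le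
      rintro _ ⟨u, rfl⟩
      rw [hf]
      have h5 : ∀ v : S, v ∈ N → π v ∈ Lt.map Ab.subtype := fun v hv => by
        rw [hN, Subgroup.mem_comap] at hv
        exact hv
      exact h5 u u.2
    rw [← h1, pow_add, mul_comm (p ^ a)]
    exact Nat.mul_le_mul (h2.trans hC1card) (h3.trans hLtcard)
  have htN : ∀ i : ℕ, i ≤ a → t i ∈ N := by
    intro i hi
    rw [hN, Subgroup.mem_comap]
    refine ⟨τ i, ?_, hτ i⟩
    rcases hi.eq_or_lt with rfl | hlt
    · exact hτa
    · exact hLt ▸ Subgroup.subset_closure ⟨⟨i, hlt⟩, rfl⟩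
  have hyN : ∀ u ∈ N, y * u * y⁻¹ ∈ N := by
    intro u hu
    rw [hN, Subgroup.mem_comap] at hu
    obtain ⟨⟨l, hlAb⟩, hl, hlu⟩ := hu
    have key : ∀ w ∈ Lt, ∀ u : S, π u = ((w : Ab) : S ⧸ C1) → y * u * y⁻¹ ∈ N := by
      intro w hw
      rw [← hLt] at hw
      induction hw using Subgroup.closure_induction with
      | mem w hw =>
        obtain ⟨i, rfl⟩ := hw
        intro u hu
        have e : y * t i * y⁻¹ = t (i + 1) := by
          rw [ht, ht, ← conj_mul, ← conj_inv]
          have e1 : ∀ j : ℤ, y * orb y x j * y⁻¹ = orb y x (1 + j) := fun j => by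
            simpa using orb_conj y x j 1
          rw [e1, e1]
          push_cast
          simp only [add_comm, add_left_comm]
        have h1 : π (y * u * y⁻¹) = π (t (i + 1)) := by
          rw [← e, map_mul, map_mul, hu, hτ, ← map_mul, ← map_mul]
        have h2 := htN ((i : ℕ) + 1) (Nat.succ_le_of_lt i.2)
        rw [hN, Subgroup.mem_comap] at h2 ⊢
        rwa [h1]
      | one =>
        intro u hu
        rw [Subgroup.coe_one, ← MonoidHom.mem_ker, hπker] at hu
        exact hC1N (hC1n.conj_mem u hu y)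
      | mul w w' _ _ ih ih' =>
        intro u hu
        obtain ⟨a₁, -, ha₁⟩ : ((w : Ab) : S ⧸ C1) ∈ Hx.map π := hAb.symm ▸ (w : Ab).2
        obtain ⟨a₂, -, ha₂⟩ : ((w' : Ab) : S ⧸ C1) ∈ Hx.map π := hAb.symm ▸ (w' : Ab).2
        have hz : (a₁ * a₂)⁻¹ * u ∈ C1 := by
          rw [← hπker, MonoidHom.mem_ker, map_mul, map_inv, map_mul, ha₁, ha₂, hu, ← Subgroup.coe_mul,
            inv_mul_cancel]
        rw [show y * u * y⁻¹ = (y * a₁ * y⁻¹) * (y * a₂ * y⁻¹) *
          (y * ((a₁ * a₂)⁻¹ * u) * y⁻¹) by group]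
        exact mul_mem (mul_mem (ih a₁ ha₁) (ih' a₂ ha₂)) (hC1N (hC1n.conj_mem _ hz y))
      | inv w _ ih =>
        intro u hu
        have h1 := ih u⁻¹ (by rw [map_inv, hu, ← Subgroup.coe_inv, inv_inv])
        rw [show y * u * y⁻¹ = (y * u⁻¹ * y⁻¹)⁻¹ by group]
        exact inv_mem h1
    exact key _ hl u hlu.symm
  have hyz : Subgroup.zpowers y ≤ Subgroup.normalizer (N : Set S) := by
    rw [Subgroup.zpowers_le, Subgroup.mem_normalizer_iff_map_conj_eq]
    refine Subgroup.eq_of_le_of_card_ge ?_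
      (Subgroup.card_map_of_injective (MulAut.conj y).injective).ge
    rintro _ ⟨u, hu, rfl⟩
    exact hyN u hu
  refine ⟨N ⊔ Subgroup.zpowers y, Subgroup.mem_sup_right (Subgroup.mem_zpowers y), ?_, ?_⟩
  · refine Subgroup.mem_sup_left ?_
    have := htN 0 (Nat.zero_le a)
    simpa [ht, orb] using this
  · have hset := Subgroup.coe_mul_of_right_le_normalizer_left N (Subgroup.zpowers y) hyz
    calc Nat.card (N ⊔ Subgroup.zpowers y : Subgroup S)
        ≤ Nat.card (N × Subgroup.zpowers y) := by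
          refine Nat.card_le_card_of_surjective
            (fun z => (⟨z.1 * z.2, mul_mem (Subgroup.mem_sup_left z.1.2)
              (Subgroup.mem_sup_right z.2.2)⟩ : (N ⊔ Subgroup.zpowers y : Subgroup S))) ?_
          rintro ⟨z, hz⟩
          have hz' : z ∈ ((N ⊔ Subgroup.zpowers y : Subgroup S) : Set S) := hz
          rw [hset] at hz'
          obtain ⟨u, hu, v, hv, rfl⟩ := hz'
          exact ⟨(⟨u, hu⟩, ⟨v, hv⟩), rfl⟩
      _ ≤ p ^ (a + h) * n := by
          rw [Nat.card_prod]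
          refine Nat.mul_le_mul hNcard ?_
          rw [Nat.card_zpowers]
          exact Nat.le_of_dvd hn (orderOf_dvd_of_pow_eq_one hy)

end CfsgLib.SchmidtUniversal
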