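import Cfsg.Prelude.Def_Transfer
import Cfsg.Agent.SchmidtUniversal.Bound
import Mathlib.GroupTheory.SemidirectProduct
import Mathlib.GroupTheory.SchurZassenhaus
import Mathlib.GroupTheory.SpecificGroups.Cyclic
import Mathlib.GroupTheory.PGroup
import Mathlib.FieldTheory.Finite.GaloisField
import Mathlib.FieldTheory.Finite.Basic
import Mathlib.RingTheory.IntegralDomain
import Mathlib.Tactic.LinearCombination

/-!
# The universal Schmidt group

For an element `ζ` of prime order `q` generating the field `K` and an invariant biadditive form on `K`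
with values in a subgroup `W` spanned by its skew part, the semidirect product of the Heisenberg
extension `K × W` with a cyclic `q`-group has no normal `p`-complement while all its proper subgroups
have one.
-/

set_option autoImplicit false
set_option linter.style.haveILetI false
set_option linter.unusedSectionVars false

namespace CfsgLib.SchmidtUniversal

open scoped commutatorElement

universe u

/-- A subgroup of order prime to `p` and `p`-power index that is normal is a normal `p`-complement. -/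
theorem complement_of_index {H : Type u} [Group H] [Finite H] {p k : ℕ} [Fact p.Prime]
    (N : Subgroup H) (hN : N.Normal) (hc : ¬ p ∣ Nat.card N) (hi : N.index = p ^ k) :
    Cfsg.HasNormalPComplement p H := by
  obtain ⟨P⟩ : Nonempty (Sylow p H) := inferInstance
  have hp : p.Prime := Fact.out
  refine ⟨P, N, hN, Subgroup.isComplement'_of_coprime ?_ ?_⟩
  · rw [P.card_eq_multiplicity]
    have h := N.card_mul_index
    rw [hi] at h
    rw [← h, Nat.factorization_mul Nat.card_pos.ne' (pow_ne_zero _ hp.ne_zero), Finsupp.add_apply,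
      Nat.factorization_eq_zero_of_not_dvd hc, zero_add, hp.factorization_pow,
      Finsupp.single_eq_same]
  · rw [P.card_eq_multiplicity]
    exact ((hp.coprime_iff_not_dvd.2 hc).symm).pow_right _

/-- A finite commutative group has a normal `p`-complement. -/
theorem complement_of_comm {H : Type u} [Group H] [Finite H] {p : ℕ} [Fact p.Prime]
    (hc : ∀ x y : H, x * y = y * x) : Cfsg.HasNormalPComplement p H := by
  letI : CommGroup H := { ‹Group H› with mul_comm := hc }
  have hp : p.Prime := Fact.out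
  obtain ⟨m, hm⟩ : ∃ m, m = Nat.card H / p ^ (Nat.card H).factorization p := ⟨_, rfl⟩
  obtain ⟨N, hN⟩ : ∃ N : Subgroup H, ∀ x, x ∈ N ↔ x ^ m = 1 :=
    ⟨(powMonoidHom m : H →* H).ker, fun x => MonoidHom.mem_ker⟩
  have hNn : N.Normal := N.normal_of_isMulCommutative
  have hnd : ¬ p ∣ m := hm ▸ Nat.not_dvd_ordCompl hp Nat.card_pos.ne'
  have hcard : ¬ p ∣ Nat.card N := by
    intro hd
    obtain ⟨x, hx⟩ := exists_prime_orderOf_dvd_card' p hd
    have h1 : (x : H) ^ m = 1 := (hN _).1 x.2
    have h2 := orderOf_dvd_of_pow_eq_one h1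
    rw [Subgroup.orderOf_coe, hx] at h2
    exact hnd h2
  have hP : IsPGroup p (H ⧸ N) := by
    intro z
    obtain ⟨x, rfl⟩ := QuotientGroup.mk_surjective z
    refine ⟨(Nat.card H).factorization p, ?_⟩
    rw [← QuotientGroup.mk_pow, QuotientGroup.eq_one_iff, hN, ← pow_mul, hm,
      Nat.ordProj_mul_ordCompl_eq_self, pow_card_eq_one']
  obtain ⟨k, hk⟩ := hP.exists_card_eq
  exact complement_of_index N hNn hcard (k := k) (by rw [Subgroup.index_eq_card, hk])

/-- An invariant biadditive form with values in a subgroup spanned by its skew part. -/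
structure Form (K : Type) [Field K] (ζ : K) where
  W : AddSubgroup K
  B : K →+ K →+ K
  mem : ∀ u v, B u v ∈ W
  inv : ∀ u v, B (ζ * u) (ζ * v) = B u v
  span : ∀ w ∈ W, ∃ u, B u 1 - B 1 u = w

variable {K : Type} [Field K] {ζ : K}

/-- The Heisenberg extension of a form. -/
@[ext] structure Heis (F : Form K ζ) where
  fst : K
  snd : F.W

namespace Heis

variable {F : Form K ζ}

instance : Mul (Heis F) :=
  ⟨fun a b => ⟨a.fst + b.fst, a.snd + b.snd + ⟨F.B a.fst b.fst, F.mem _ _⟩⟩⟩

instance : One (Heis F) := ⟨⟨0, 0⟩⟩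

instance : Inv (Heis F) := ⟨fun a => ⟨-a.fst, -a.snd + ⟨F.B a.fst a.fst, F.mem _ _⟩⟩⟩

@[simp] theorem mul_fst (a b : Heis F) : (a * b).fst = a.fst + b.fst := rfl
@[simp] theorem mul_snd (a b : Heis F) :
    ((a * b).snd : K) = a.snd + b.snd + F.B a.fst b.fst := rfl
@[simp] theorem one_fst : (1 : Heis F).fst = 0 := rfl
@[simp] theorem one_snd : ((1 : Heis F).snd : K) = 0 := rfl
@[simp] theorem inv_fst (a : Heis F) : a⁻¹.fst = -a.fst := rfl
@[simp] theorem inv_snd (a : Heis F) : (a⁻¹.snd : K) = -a.snd + F.B a.fst a.fst := rfl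

theorem ext' {a b : Heis F} (h1 : a.fst = b.fst) (h2 : (a.snd : K) = b.snd) : a = b :=
  Heis.ext h1 (Subtype.ext h2)

instance : Group (Heis F) where
  mul_assoc a b c := ext' (by simp [add_assoc]) (by simp; abel)
  one_mul a := ext' (by simp) (by simp)
  mul_one a := ext' (by simp) (by simp)
  inv_mul_cancel a := ext' (by simp) (by simp)

/-- The first coordinate as a homomorphism. -/
def fstHom : Heis F →* Multiplicative K where
  toFun a := Multiplicative.ofAdd a.fst
  map_one' := rfl
  map_mul' _ _ := rfl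

theorem pow_fst (a : Heis F) (m : ℕ) : (a ^ m).fst = m • a.fst :=
  congrArg Multiplicative.toAdd (map_pow fstHom a m)

theorem card_eq : Nat.card (Heis F) = Nat.card K * Nat.card F.W := by
  rw [← Nat.card_prod]
  exact Nat.card_congr ⟨fun a => (a.fst, a.snd), fun a => ⟨a.1, a.2⟩, fun _ => rfl, fun _ => rfl⟩

instance [Finite K] : Finite (Heis F) :=
  Finite.of_equiv (K × F.W) ⟨fun a => ⟨a.1, a.2⟩, fun a => (a.fst, a.snd), fun _ => rfl, fun _ => rfl⟩

/-- Multiplication by a power of `ζ`. -/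
def scale (F : Form K ζ) (hζ : ζ ≠ 0) (m : ℕ) : MulAut (Heis F) where
  toFun a := ⟨ζ ^ m * a.fst, a.snd⟩
  invFun a := ⟨(ζ ^ m)⁻¹ * a.fst, a.snd⟩
  left_inv a := ext' (by simp [pow_ne_zero, hζ]) rfl
  right_inv a := ext' (by simp [pow_ne_zero, hζ]) rfl
  map_mul' a b := by
    refine ext' (by simp [mul_add]) ?_
    have h : ∀ (m : ℕ) u v, F.B (ζ ^ m * u) (ζ ^ m * v) = F.B u v := by
      intro m
      induction m with
      | zero => simp
      | succ m ih => intro u v; rw [pow_succ', mul_assoc, mul_assoc, F.inv, ih]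
    simp [h]

@[simp] theorem scale_fst (hζ : ζ ≠ 0) (m : ℕ) (a : Heis F) :
    (scale F hζ m a).fst = ζ ^ m * a.fst := rfl

@[simp] theorem scale_snd (hζ : ζ ≠ 0) (m : ℕ) (a : Heis F) :
    (scale F hζ m a).snd = a.snd := rfl

end Heis

/-- The action of the cyclic group of order `n`. -/
def act (F : Form K ζ) (n : ℕ) [NeZero n] (hζ : ζ ≠ 0) (hn : ζ ^ n = 1) :
    Multiplicative (ZMod n) →* MulAut (Heis F) where
  toFun c := Heis.scale F hζ (Multiplicative.toAdd c).val
  map_one' := MulEquiv.ext fun a => Heis.ext' (by simp) rfl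
  map_mul' c d := MulEquiv.ext fun a => Heis.ext' (by
    rw [MulAut.mul_apply, Heis.scale_fst, Heis.scale_fst, Heis.scale_fst, toAdd_mul, ← mul_assoc,
      ← pow_add, ZMod.val_add, ← pow_eq_pow_mod _ hn]) rfl

section Model

variable [Finite K] (F : Form K ζ) (n : ℕ) [NeZero n] (hζ : ζ ≠ 0) (hn : ζ ^ n = 1)

/-- The universal group. -/
abbrev Grp : Type := Heis F ⋊[act F n hζ hn] Multiplicative (ZMod n)

theorem card_grp : Nat.card (Grp F n hζ hn) = Nat.card K * Nat.card F.W * n := by
  rw [SemidirectProduct.card, Heis.card_eq]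
  congr 1
  rw [Nat.card_congr Multiplicative.toAdd, Nat.card_zmod]

instance : Finite (Grp F n hζ hn) := Finite.of_equiv _ SemidirectProduct.equivProd.symm

/-- The element `x`. -/
def gx : Grp F n hζ hn := SemidirectProduct.inl ⟨1, 0⟩

/-- The element `y`. -/
def gy : Grp F n hζ hn := SemidirectProduct.inr (Multiplicative.ofAdd 1)

theorem gy_zpow (i : ℤ) :
    (gy F n hζ hn) ^ i = SemidirectProduct.inr (Multiplicative.ofAdd (i : ZMod n)) := by
  rw [gy, ← map_zpow]
  congr 1
  rw [← ofAdd_zsmul, zsmul_one]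

theorem gy_pow : (gy F n hζ hn) ^ n = 1 := by
  rw [← zpow_natCast, gy_zpow, Int.cast_natCast, ZMod.natCast_self, ofAdd_zero, map_one]

theorem orb_eq (i : ℤ) : orb (gy F n hζ hn) (gx F n hζ hn) i =
    SemidirectProduct.inl ⟨ζ ^ (i : ZMod n).val, 0⟩ := by
  rw [orb, gy_zpow, ← map_inv, gx, ← SemidirectProduct.inl_aut]
  congr 1
  exact Heis.ext' (by simp [act]) rfl

theorem orb_nat (i : ℕ) : orb (gy F n hζ hn) (gx F n hζ hn) i =
    SemidirectProduct.inl ⟨ζ ^ i, 0⟩ := by
  rw [orb_eq, Int.cast_natCast, ZMod.val_natCast, ← pow_eq_pow_mod _ hn]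

theorem inl_central {h : Heis F} (h0 : h.fst = 0) :
    (SemidirectProduct.inl h : Grp F n hζ hn) ∈ Subgroup.center _ := by
  rw [Subgroup.mem_center_iff]
  intro g
  refine SemidirectProduct.ext ?_ (by simp)
  rw [SemidirectProduct.mul_left, SemidirectProduct.mul_left, SemidirectProduct.left_inl,
    SemidirectProduct.right_inl, map_one, MulAut.one_apply]
  refine Heis.ext' (by simp [act, h0]) ?_
  simp [act, h0]; abel

theorem comm_fst (a b : Heis F) : ⁅a, b⁆.fst = 0 := by
  simp [commutatorElement_def]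

theorem hyps_comm (i j : ℤ) :
    ⁅orb (gy F n hζ hn) (gx F n hζ hn) i, orb (gy F n hζ hn) (gx F n hζ hn) j⁆ ∈
      Subgroup.center _ := by
  rw [orb_eq, orb_eq, ← map_commutatorElement]
  exact inl_central F n hζ hn (comm_fst F _ _)

theorem hyps_pow {p : ℕ} [CharP K p] : gx F n hζ hn ^ p ∈ Subgroup.center _ := by
  rw [gx, ← map_pow]
  exact inl_central F n hζ hn (by rw [Heis.pow_fst, nsmul_eq_mul, CharP.cast_eq_zero, zero_mul])

theorem hyps_rel {p : ℕ} [NeZero p] [CharP K p] (c : ℕ → ZMod p) (a : ℕ)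
    (hc : ∑ i ∈ Finset.range (a + 1), ((c i).val : K) * ζ ^ i = 0) :
    ((List.range (a + 1)).map fun i : ℕ =>
      orb (gy F n hζ hn) (gx F n hζ hn) i ^ (c i).val).prod ∈ Subgroup.center _ := by
  have h : ∀ m : ℕ, ∃ b : Heis F, ((List.range m).map fun i : ℕ =>
      orb (gy F n hζ hn) (gx F n hζ hn) i ^ (c i).val).prod = SemidirectProduct.inl b ∧
      b.fst = ∑ i ∈ Finset.range m, ((c i).val : K) * ζ ^ i := by
    intro m
    induction m with
    | zero => exact ⟨1, by simp, by simp⟩
    | succ m ih =>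
      obtain ⟨b, hb, hb'⟩ := ih
      refine ⟨b * (⟨ζ ^ m, 0⟩ : Heis F) ^ (c m).val, ?_, ?_⟩
      · rw [List.range_succ, List.map_append, List.prod_append, List.map_singleton,
          List.prod_singleton, hb, orb_nat, map_mul, map_pow]
      · rw [Heis.mul_fst, hb', Heis.pow_fst, nsmul_eq_mul, Finset.sum_range_succ]
  obtain ⟨b, hb, hb'⟩ := h (a + 1)
  rw [hb]
  exact inl_central F n hζ hn (hb'.trans hc)

/-- A subgroup meeting the top of both factors is everything. -/
theorem eq_top_of (hgen : ∀ R : Subring K, ζ ∈ R → R = ⊤) (H : Subgroup (Grp F n hζ hn))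
    (g : Grp F n hζ hn) (hg : g ∈ H) (hgr : g.right = Multiplicative.ofAdd 1) (u : Heis F)
    (hu : SemidirectProduct.inl u ∈ H) (hu0 : u.fst ≠ 0) : H = ⊤ := by
  obtain ⟨U, hU⟩ : ∃ U : AddSubgroup K, ∀ v, v ∈ U ↔
      ∃ h : Heis F, h.fst = v ∧ SemidirectProduct.inl h ∈ H :=
    ⟨{ carrier := {v | ∃ h : Heis F, h.fst = v ∧ SemidirectProduct.inl h ∈ H}
       zero_mem' := ⟨1, rfl, by rw [map_one]; exact one_mem _⟩
       add_mem' := by
         rintro _ _ ⟨a, rfl, ha⟩ ⟨b, rfl, hb⟩
         exact ⟨a * b, rfl, by rw [map_mul]; exact mul_mem ha hb⟩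
       neg_mem' := by
         rintro _ ⟨a, rfl, ha⟩
         exact ⟨a⁻¹, rfl, by rw [map_inv]; exact inv_mem ha⟩ }, fun _ => Iff.rfl⟩
  have hz : ∀ v ∈ U, ζ * v ∈ U := by
    intro v hv
    obtain ⟨h, rfl, hh⟩ := (hU v).1 hv
    refine (hU _).2 ⟨g.left * (act F n hζ hn g.right h) * g.left⁻¹, ?_, ?_⟩
    · rw [Heis.mul_fst, Heis.mul_fst, Heis.inv_fst, hgr]
      simp only [act, MonoidHom.coe_mk, OneHom.coe_mk, toAdd_ofAdd, Heis.scale_fst]
      rw [ZMod.val_one_eq_one_mod, ← pow_eq_pow_mod _ hn, pow_one]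
      ring
    · have h1 := mul_mem (mul_mem hg hh) (inv_mem hg)
      have e : g * SemidirectProduct.inl h * g⁻¹ =
          SemidirectProduct.inl (g.left * (act F n hζ hn g.right h) * g.left⁻¹) := by
        conv_lhs => rw [← SemidirectProduct.inl_left_mul_inr_right g]
        rw [map_mul, map_mul, map_inv, SemidirectProduct.inl_aut, map_inv]
        group
      rwa [e] at h1
  obtain ⟨R, hR⟩ : ∃ R : Subring K, ∀ c, c ∈ R ↔ ∀ v ∈ U, c * v ∈ U :=
    ⟨{ carrier := {c | ∀ v ∈ U, c * v ∈ U}
       one_mem' := fun v hv => by simpa using hv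
       zero_mem' := fun v _ => by simp [U.zero_mem]
       mul_mem' := fun {a b} ha hb v hv => by rw [mul_assoc]; exact ha _ (hb v hv)
       add_mem' := fun {a b} ha hb v hv => by rw [add_mul]; exact U.add_mem (ha v hv) (hb v hv)
       neg_mem' := fun {a} ha v hv => by rw [neg_mul]; exact U.neg_mem (ha v hv) }, fun _ => Iff.rfl⟩
  have hUall : ∀ v, v ∈ U := by
    intro v
    have hv : v / u.fst ∈ R := by rw [hgen R ((hR ζ).2 hz)]; exact Subring.mem_top _
    have h1 := (hR _).1 hv _ ((hU _).2 ⟨u, rfl, hu⟩)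
    rwa [div_mul_cancel₀ _ hu0] at h1
  have hW : ∀ w : F.W, SemidirectProduct.inl (⟨0, w⟩ : Heis F) ∈ H := by
    intro w
    obtain ⟨v, hv⟩ := F.span w w.2
    obtain ⟨a, ha, haH⟩ := (hU _).1 (hUall v)
    obtain ⟨b, hb, hbH⟩ := (hU _).1 (hUall 1)
    have e : a * b = (⟨0, w⟩ : Heis F) * (b * a) := by
      refine Heis.ext' (by simp [add_comm]) ?_
      simp [ha, hb, ← hv]
      abel
    have h1 : SemidirectProduct.inl (a * b * (b * a)⁻¹) ∈ H := by
      rw [map_mul, map_inv, map_mul, map_mul]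
      exact mul_mem (mul_mem haH hbH) (inv_mem (mul_mem hbH haH))
    rwa [e, mul_inv_cancel_right] at h1
  have hall : ∀ h : Heis F, SemidirectProduct.inl h ∈ H := by
    intro h
    obtain ⟨b, hb, hbH⟩ := (hU _).1 (hUall h.fst)
    have e : h = (⟨0, h.snd - b.snd⟩ : Heis F) * b := by
      refine Heis.ext' (by simp [hb]) ?_
      simp
    rw [e, map_mul]
    exact mul_mem (hW _) hbH
  refine eq_top_iff.2 fun x _ => ?_
  have hy : SemidirectProduct.inr (Multiplicative.ofAdd (1 : ZMod n)) ∈ H := by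
    have h1 := mul_mem (inv_mem (hall g.left)) hg
    nth_rewrite 2 [← SemidirectProduct.inl_left_mul_inr_right g] at h1
    rwa [inv_mul_cancel_left, hgr] at h1
  rw [← SemidirectProduct.inl_left_mul_inr_right x]
  refine mul_mem (hall _) ?_
  obtain ⟨k, hk⟩ : ∃ k : ℕ, x.right = Multiplicative.ofAdd (k : ZMod n) :=
    ⟨(Multiplicative.toAdd x.right).val, by rw [ZMod.natCast_zmod_val]; rfl⟩
  rw [hk, ← nsmul_one, ofAdd_nsmul, map_pow]
  exact pow_mem hy k

variable {p q : ℕ} [Fact p.Prime] [Fact q.Prime]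

theorem heis_pgroup {a b : ℕ} (hK : Nat.card K = p ^ a) (hW : Nat.card F.W = p ^ b) :
    IsPGroup p (Heis F) :=
  IsPGroup.of_card (n := a + b) (by rw [Heis.card_eq, hK, hW, pow_add])

theorem right_pow (g : Grp F n hζ hn) (k : ℕ) : (g ^ k).right = g.right ^ k :=
  map_pow SemidirectProduct.rightHom g k

/-- The universal group is minimal non-`p`-nilpotent. -/
theorem minimal {r : ℕ} (hr : n = q ^ r) (hpq : p ≠ q) (hζq : orderOf ζ = q) {a b : ℕ}
    (hK : Nat.card K = p ^ a) (hW : Nat.card F.W = p ^ b)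
    (hgen : ∀ R : Subring K, ζ ∈ R → R = ⊤) :
    ¬ Cfsg.HasNormalPComplement p (Grp F n hζ hn) ∧
      ∀ H : Subgroup (Grp F n hζ hn), H ≠ ⊤ → Cfsg.HasNormalPComplement p H := by
  have hp : p.Prime := Fact.out
  have hq : q.Prime := Fact.out
  have hPH := heis_pgroup F hK hW
  have hcop : Nat.Coprime p q := (Nat.coprime_primes hp hq).2 hpq
  refine ⟨?_, fun H hH => ?_⟩
  · rintro ⟨P, N, hN, hc⟩
    obtain ⟨k, hk⟩ := P.isPGroup'.exists_card_eq
    have hi : N.index = p ^ k := hk ▸ hc.symm.index_eq_card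
    have hy : gy F n hζ hn ∈ N := by
      rw [← QuotientGroup.eq_one_iff, ← orderOf_eq_one_iff]
      have h1 : orderOf (QuotientGroup.mk (s := N) (gy F n hζ hn)) ∣ p ^ k := by
        rw [← hi, Subgroup.index_eq_card]; exact orderOf_dvd_natCard _
      have h2 : orderOf (QuotientGroup.mk (s := N) (gy F n hζ hn)) ∣ q ^ r := by
        refine (orderOf_map_dvd (QuotientGroup.mk' N) _).trans ?_
        rw [← hr]; exact orderOf_dvd_of_pow_eq_one (gy_pow F n hζ hn)
      exact Nat.eq_one_of_dvd_coprimes (hcop.pow k r) h1 h2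
    have hx : ⁅gx F n hζ hn, gy F n hζ hn⁆ ∈ N := by
      rw [commutatorElement_def]
      exact mul_mem (hN.conj_mem _ hy _) (inv_mem hy)
    have hcn : Nat.Coprime (Nat.card N) p := by
      refine (hp.coprime_iff_not_dvd.2 fun hd => ?_).symm
      have h1 := N.card_mul_index
      have h2 : (p ^ (k + 1)) ∣ Nat.card (Grp F n hζ hn) := by
        rw [← h1, hi, pow_succ, mul_comm]; exact Nat.mul_dvd_mul_right hd _
      have h3 := P.pow_dvd_card_of_pow_dvd_card h2
      rw [hk] at h3
      exact absurd (Nat.le_of_dvd (pow_pos hp.pos k) h3)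
        (not_le.2 (Nat.pow_lt_pow_right hp.one_lt (by omega)))
    obtain ⟨w, hw⟩ : ∃ w, ⁅gx F n hζ hn, gy F n hζ hn⁆ = SemidirectProduct.inl w := by
      refine ⟨⁅gx F n hζ hn, gy F n hζ hn⁆.left, ?_⟩
      refine SemidirectProduct.ext (by simp) ?_
      rw [SemidirectProduct.right_inl, ← SemidirectProduct.rightHom_eq_right,
        map_commutatorElement, commutatorElement_eq_one_iff_commute]
      exact Commute.all _ _
    have hw1 : w = 1 := by
      rw [← orderOf_eq_one_iff]
      obtain ⟨j, hj⟩ := IsPGroup.iff_orderOf.1 hPH w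
      have h1 : orderOf w ∣ Nat.card N := by
        rw [← orderOf_injective (SemidirectProduct.inl : Heis F →* Grp F n hζ hn)
          SemidirectProduct.inl_injective w, ← hw]
        exact Subgroup.orderOf_dvd_natCard _ hx
      exact Nat.eq_one_of_dvd_coprimes (hcn.pow_right j) h1 (hj ▸ dvd_rfl)
    rw [hw1, map_one, commutatorElement_eq_one_iff_commute] at hw
    have h1 := congrArg (fun z : Grp F n hζ hn => z.left.fst) hw.eq
    have e : ∀ z : Heis F, act F n hζ hn (Multiplicative.ofAdd 1) z =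
        Heis.scale F hζ ((1 : ZMod n)).val z := fun z => rfl
    simp only [gx, gy, SemidirectProduct.mul_left, SemidirectProduct.left_inl,
      SemidirectProduct.right_inl, SemidirectProduct.left_inr, SemidirectProduct.right_inr,
      map_one, one_mul, mul_one, MulAut.one_apply, e, Heis.scale_fst] at h1
    rw [ZMod.val_one_eq_one_mod, ← pow_eq_pow_mod _ hn, pow_one] at h1
    rw [← h1, orderOf_one] at hζq
    exact hq.one_lt.ne hζq
  by_cases hgr : ∃ g ∈ H, g.right = Multiplicative.ofAdd 1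
  · -- `H` is commutative
    obtain ⟨g, hg, hgr⟩ := hgr
    obtain ⟨ψ, hψ⟩ : ∃ ψ : H →* Multiplicative (ZMod n),
        ψ = SemidirectProduct.rightHom.comp H.subtype := ⟨_, rfl⟩
    have hker : ψ.ker ≤ Subgroup.center H := by
      intro x hx
      rw [hψ, MonoidHom.mem_ker, MonoidHom.comp_apply, Subgroup.coe_subtype,
        SemidirectProduct.rightHom_eq_right] at hx
      have e : (x : Grp F n hζ hn) = SemidirectProduct.inl (x : Grp F n hζ hn).left := by
        refine SemidirectProduct.ext (by simp) ?_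
        simp [hx]
      have h0 : (x : Grp F n hζ hn).left.fst = 0 := by
        by_contra h0
        exact hH (eq_top_of F n hζ hn hgen H g hg hgr _ (e ▸ x.2) h0)
      rw [Subgroup.mem_center_iff]
      intro z
      refine Subtype.ext ?_
      rw [Subgroup.coe_mul, Subgroup.coe_mul, e]
      exact Subgroup.mem_center_iff.1 (inl_central F n hζ hn h0) _
    exact complement_of_comm (commutative_of_cyclic_center_quotient ψ hker)
  -- the acting part of `H` centralizes the Heisenberg group
  have htriv : ∀ x ∈ H, act F n hζ hn x.right = 1 := by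
    intro x hx
    obtain ⟨m, hm⟩ : ∃ m, (Multiplicative.toAdd x.right).val = m := ⟨_, rfl⟩
    have hqm : q ∣ m := by
      by_contra hqm
      have hu : IsUnit ((m : ZMod n)) := by
        rw [ZMod.isUnit_iff_coprime, hr]
        exact ((hq.coprime_iff_not_dvd.2 hqm).symm).pow_right r
      obtain ⟨v, hv⟩ := hu.exists_left_inv
      refine hgr ⟨x ^ v.val, pow_mem hx _, ?_⟩
      rw [right_pow]
      refine Multiplicative.toAdd.injective ?_
      rw [toAdd_pow, toAdd_ofAdd, ← ZMod.natCast_zmod_val (Multiplicative.toAdd x.right), hm,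
        nsmul_eq_mul, ZMod.natCast_zmod_val, hv]
    obtain ⟨m', rfl⟩ := hqm
    refine MulEquiv.ext fun z => Heis.ext' ?_ rfl
    simp only [act, MonoidHom.coe_mk, OneHom.coe_mk, Heis.scale_fst, hm, MulAut.one_apply]
    rw [pow_mul, ← hζq, pow_orderOf_eq_one, one_pow, one_mul]
  obtain ⟨lft, hlft⟩ : ∃ lft : H →* Heis F, ∀ x : H, lft x = (x : Grp F n hζ hn).left :=
    ⟨{ toFun := fun x => (x : Grp F n hζ hn).left
       map_one' := rfl
       map_mul' := fun x y => by
        rw [Subgroup.coe_mul, SemidirectProduct.mul_left, htriv _ x.2, MulAut.one_apply] },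
      fun _ => rfl⟩
  obtain ⟨k, hk⟩ := (hPH.to_subgroup lft.range).exists_card_eq
  refine complement_of_index lft.ker inferInstance (fun hd => ?_) (k := k)
    (by rw [Subgroup.index_ker, hk])
  obtain ⟨z, hz⟩ := exists_prime_orderOf_dvd_card' p hd
  obtain ⟨ψ, hψ⟩ : ∃ ψ : lft.ker →* Multiplicative (ZMod n),
      ψ = SemidirectProduct.rightHom.comp (H.subtype.comp lft.ker.subtype) := ⟨_, rfl⟩
  have hinj : Function.Injective ψ := by
    intro u v huv
    rw [hψ] at huv
    refine Subtype.ext (Subtype.ext (SemidirectProduct.ext ?_ huv))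
    rw [← hlft, ← hlft, MonoidHom.mem_ker.1 u.2, MonoidHom.mem_ker.1 v.2]
  have h1 := orderOf_dvd_natCard (ψ z)
  rw [orderOf_injective ψ hinj z, hz, Nat.card_congr Multiplicative.toAdd, Nat.card_zmod, hr] at h1
  exact hpq ((Nat.prime_dvd_prime_iff_eq hp hq).1 (hp.dvd_of_dvd_pow h1))

end Model

end CfsgLib.SchmidtUniversal
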